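import Groth.Agent.QFDualLib.Flat
import Groth.Prelude.Def_Disc

/-! The Noether different and the different of a finite free algebra. -/

set_option autoImplicit false

universe u v

open TensorProduct Matrix

namespace QFDualLib

section Unram

variable (A : Type u) (B : Type v) [CommRing A] [CommRing B] [Algebra A B] [Algebra.FiniteType A B]

theorem noether_le_iff (q : Ideal B) [q.IsPrime] :
    Disc.noetherDifferent A B ≤ q ↔ Module.annihilator B Ω[B⁄A] ≤ q := by
  let μ := Algebra.TensorProduct.lmul' (S := B) A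
  let I : Ideal (B ⊗[A] B) := RingHom.ker μ
  have hI : I = KaehlerDifferential.ideal A B := rfl
  have hact : ∀ (t : B ⊗[A] B) (x : KaehlerDifferential.ideal A B) ,
      μ t • (KaehlerDifferential.ideal A B).toCotangent x = t • (KaehlerDifferential.ideal A B).toCotangent x := by
    intro t x
    have h0 : t - μ t ⊗ₜ[A] (1 : B) ∈ KaehlerDifferential.ideal A B := by
      show μ (t - μ t ⊗ₜ[A] (1 : B)) = 0
      simp [μ]
    have e : algebraMap B (B ⊗[A] B) (μ t) • (KaehlerDifferential.ideal A B).toCotangent x =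
        t • (KaehlerDifferential.ideal A B).toCotangent x := by
      rw [← map_smul, ← map_smul, Ideal.toCotangent_eq, pow_two]
      simp only [SetLike.val_smul, smul_eq_mul, ← sub_mul]
      refine Ideal.mul_mem_mul ?_ x.2
      rw [Algebra.TensorProduct.algebraMap_apply, Algebra.algebraMap_self_apply, ← neg_sub]
      exact neg_mem h0
    rw [← e, algebraMap_smul]
  constructor
  · intro hD b hb
    by_contra hbq
    obtain ⟨t, rfl⟩ : ∃ t, μ t = b := ⟨b ⊗ₜ 1, by simp [μ]⟩
    have hker : ∀ x ∈ I, t * x ∈ I * I := by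
      intro x hx
      have h0 : μ t • (KaehlerDifferential.ideal A B).toCotangent ⟨x, hx⟩ = 0 :=
        Module.mem_annihilator.1 hb _
      rw [hact, ← map_smul, Ideal.toCotangent_eq_zero, pow_two] at h0
      exact h0
    have hfg : I.FG := KaehlerDifferential.ideal_fg A B
    have : Module.Finite (B ⊗[A] B) I := Module.Finite.of_fg hfg
    let f : I →ₗ[B ⊗[A] B] I := t • LinearMap.id
    have hf : LinearMap.range f ≤ I • (⊤ : Submodule (B ⊗[A] B) I) := by
      rintro _ ⟨x, rfl⟩
      rw [Submodule.mem_smul_top_iff, smul_eq_mul]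
      exact hker x x.2
    obtain ⟨p, hp, -, hpc, hp0⟩ :=
      LinearMap.exists_monic_and_natDegree_eq_and_coeff_mem_pow_and_aeval_eq_zero (B ⊗[A] B) f I hf
    have hr : p.eval t ∈ Submodule.annihilator I := by
      refine Submodule.mem_annihilator.2 fun x hx => ?_
      have : ∀ (p : Polynomial (B ⊗[A] B)) (y : I), Polynomial.aeval f p y = p.eval t • y := by
        intro p y
        induction p using Polynomial.induction_on' with
        | add p r hp hr => rw [map_add, LinearMap.add_apply, hp, hr, Polynomial.eval_add, add_smul]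
        | monomial n a =>
          have hfn : ∀ n, (f ^ n) y = t ^ n • y := by
            intro n
            induction n with
            | zero => simp
            | succ n ih => rw [pow_succ', Module.End.mul_apply, ih, pow_succ', mul_smul]; rfl
          rw [Polynomial.aeval_monomial, Module.End.mul_apply, hfn, Polynomial.eval_monomial, mul_smul]
          rfl
      exact congrArg Subtype.val ((this p ⟨x, hx⟩).symm.trans (LinearMap.congr_fun hp0 _))
    have hmem : μ (p.eval t) ∈ q := hD (Ideal.mem_map_of_mem _ hr)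
    have hval : μ (p.eval t) = μ t ^ p.natDegree := by
      rw [Polynomial.eval_eq_sum_range, map_sum, Finset.sum_range_succ, Finset.sum_eq_zero, zero_add,
        hp.coeff_natDegree, one_mul, map_pow]
      intro i hi
      rw [map_mul]
      have : p.coeff i ∈ I := Ideal.pow_le_self (Nat.sub_ne_zero_of_lt (Finset.mem_range.1 hi)) (hpc i)
      rw [show μ (p.coeff i) = 0 from this, zero_mul]
    rw [hval] at hmem
    exact hbq (Ideal.IsPrime.mem_of_pow_mem inferInstance _ hmem)
  · intro hann
    refine Ideal.map_le_iff_le_comap.2 fun t ht => hann ?_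
    refine Module.mem_annihilator.2 fun ω => ?_
    obtain ⟨x, rfl⟩ := (KaehlerDifferential.ideal A B).toCotangent_surjective ω
    show μ t • _ = 0
    refine (hact t x).trans ?_
    rw [← map_smul]
    have : t • x = 0 := Subtype.ext (Submodule.mem_annihilator.1 ht x x.2)
    rw [this, map_zero]
    rfl

theorem noether_le_iff_not_unramifiedAt (q : Ideal B) [hq : q.IsPrime] :
    Disc.noetherDifferent A B ≤ q ↔ ¬ Algebra.IsUnramifiedAt A q := by
  have h := Algebra.unramifiedLocus_eq_compl_support (R := A) (A := B)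
  have h2 : Module.support B Ω[B⁄A] = PrimeSpectrum.zeroLocus (Module.annihilator B Ω[B⁄A]) :=
    Module.support_eq_zeroLocus
  rw [noether_le_iff, ← not_iff_not, not_not]
  have h3 := Set.ext_iff.1 h ⟨q, hq⟩
  rw [Set.mem_compl_iff, h2, PrimeSpectrum.mem_zeroLocus, SetLike.coe_subset_coe] at h3
  exact h3.symm

end Unram

section Free

variable {A : Type u} {B : Type v} [CommRing A] [CommRing B] [Algebra A B]
  {ι : Type*} [Fintype ι] [DecidableEq ι] (b : Module.Basis ι A B)

/-- The pairing `B ⊗ B × Hom(B, A) → B`. -/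
noncomputable def pair (ξ : B ⊗[A] B) (l : Disc.Omega A B) : B :=
  TensorProduct.lift ((LinearMap.lsmul A B).comp l.toLinearMap) ξ

theorem pair_tmul (x y : B) (l : Disc.Omega A B) : pair (x ⊗ₜ y) l = l.toLinearMap x • y := rfl

theorem pair_add (ξ η : B ⊗[A] B) (l : Disc.Omega A B) : pair (ξ + η) l = pair ξ l + pair η l :=
  map_add _ _ _

theorem pair_add_right (ξ : B ⊗[A] B) (l m : Disc.Omega A B) : pair ξ (l + m) = pair ξ l + pair ξ m := by
  induction ξ using TensorProduct.induction_on with
  | zero => simp [pair]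
  | add x y hx hy => simp only [pair_add, hx, hy]; abel
  | tmul x y => simp [pair_tmul, add_smul]

theorem pair_left_mul (s : B) (ξ : B ⊗[A] B) (l : Disc.Omega A B) :
    pair ((s ⊗ₜ[A] (1 : B)) * ξ) l = pair ξ (s • l) := by
  induction ξ using TensorProduct.induction_on with
  | zero => simp [pair]
  | add x y hx hy => simp only [mul_add, pair_add, hx, hy]
  | tmul x y => simp [pair_tmul]

theorem pair_right_mul (s : B) (ξ : B ⊗[A] B) (l : Disc.Omega A B) :
    pair (((1 : B) ⊗ₜ[A] s) * ξ) l = s * pair ξ l := by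
  induction ξ using TensorProduct.induction_on with
  | zero => simp [pair]
  | add x y hx hy => simp only [mul_add, pair_add, hx, hy]
  | tmul x y => simp [pair_tmul]

omit [DecidableEq ι] in
theorem pair_coord (ξ : B ⊗[A] B) : ∑ i, b i ⊗ₜ[A] pair ξ ⟨b.coord i⟩ = ξ := by
  induction ξ using TensorProduct.induction_on with
  | zero => simp [pair]
  | add x y hx hy => simp only [pair_add, tmul_add, Finset.sum_add_distrib, hx, hy]
  | tmul x y =>
    simp only [pair_tmul, ← smul_tmul, ← TensorProduct.sum_tmul, Module.Basis.coord_apply, b.sum_repr]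

theorem mem_annihilator_iff (ξ : B ⊗[A] B) :
    ξ ∈ Submodule.annihilator (RingHom.ker (Algebra.TensorProduct.lmul' (S := B) A)) ↔
      ∀ s : B, ((1 : B) ⊗ₜ[A] s) * ξ = (s ⊗ₜ[A] (1 : B)) * ξ := by
  have h : RingHom.ker (Algebra.TensorProduct.lmul' (S := B) A) =
      Submodule.span (B ⊗[A] B) (Set.range fun s : B => (1 : B) ⊗ₜ[A] s - s ⊗ₜ[A] (1 : B)) :=
    (KaehlerDifferential.span_range_eq_ideal A B).symm
  rw [h, Submodule.mem_annihilator_span]
  simp only [Subtype.forall, Set.mem_range, forall_exists_index, forall_apply_eq_imp_iff, smul_eq_mul,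
    mul_comm ξ]
  simp only [sub_mul, sub_eq_zero]

theorem pair_smul_of_mem {ξ : B ⊗[A] B}
    (h : ξ ∈ Submodule.annihilator (RingHom.ker (Algebra.TensorProduct.lmul' (S := B) A)))
    (s : B) (l : Disc.Omega A B) : pair ξ (s • l) = s • pair ξ l := by
  rw [← pair_left_mul, ← (mem_annihilator_iff ξ).1 h s, pair_right_mul, smul_eq_mul]

/-- `Hom_B(ω, B)` from an element of the annihilator of the diagonal ideal. -/
noncomputable def pairHom {ξ : B ⊗[A] B}
    (h : ξ ∈ Submodule.annihilator (RingHom.ker (Algebra.TensorProduct.lmul' (S := B) A))) :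
    Disc.Omega A B →ₗ[B] B where
  toFun := pair ξ
  map_add' := pair_add_right ξ
  map_smul' := pair_smul_of_mem h

theorem algebraMap_smul_omega (a : A) (φ : Disc.Omega A B) :
    (algebraMap A B a • φ).toLinearMap = a • φ.toLinearMap := by
  refine LinearMap.ext fun x => ?_
  rw [Disc.Omega.smul_toLinearMap_apply, ← Algebra.smul_def, map_smul, LinearMap.smul_apply]

theorem omega_sum_apply {κ : Type*} (s : Finset κ) (f : κ → Disc.Omega A B) (x : B) :
    (∑ i ∈ s, f i).toLinearMap x = ∑ i ∈ s, (f i).toLinearMap x := by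
  classical
  induction s using Finset.induction_on with
  | empty => simp
  | insert i s hi ih => rw [Finset.sum_insert hi, Finset.sum_insert hi, Disc.Omega.add_toLinearMap, LinearMap.add_apply, ih]

omit [DecidableEq ι] in
theorem omega_eq_sum (l : Disc.Omega A B) :
    ∑ i, algebraMap A B (l.toLinearMap (b i)) • (⟨b.coord i⟩ : Disc.Omega A B) = l := by
  refine Disc.Omega.ext (LinearMap.ext fun x => ?_)
  rw [omega_sum_apply]
  simp only [algebraMap_smul_omega, LinearMap.smul_apply, Module.Basis.coord_apply, smul_eq_mul]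
  conv_rhs => rw [← b.sum_repr x, map_sum]
  exact Finset.sum_congr rfl fun i _ => by rw [map_smul, smul_eq_mul, mul_comm]

omit [DecidableEq ι] in
include b in
/-- Every `B`-linear form on `ω` comes from a unique element of the annihilator. -/
theorem existsUnique_pair (Φ : Disc.Omega A B →ₗ[B] B) :
    ∃! ξ : B ⊗[A] B, ξ ∈ Submodule.annihilator (RingHom.ker (Algebra.TensorProduct.lmul' (S := B) A)) ∧
      ∀ l, Φ l = pair ξ l := by
  let ξ := ∑ i, b i ⊗ₜ[A] Φ ⟨b.coord i⟩
  have hpair : ∀ l, pair ξ l = Φ l := by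
    intro l
    conv_rhs => rw [← omega_eq_sum b l, map_sum]
    simp only [pair, ξ, map_sum]
    refine Finset.sum_congr rfl fun i _ => ?_
    rw [map_smul, smul_eq_mul, ← Algebra.smul_def]
    rfl
  refine ⟨ξ, ⟨(mem_annihilator_iff ξ).2 fun s => ?_, fun l => (hpair l).symm⟩, ?_⟩
  · rw [← pair_coord b (((1 : B) ⊗ₜ[A] s) * ξ), ← pair_coord b ((s ⊗ₜ[A] (1 : B)) * ξ)]
    refine Finset.sum_congr rfl fun i _ => ?_
    rw [pair_right_mul, pair_left_mul, hpair, hpair, map_smul, smul_eq_mul]
  · rintro η ⟨-, hη⟩
    rw [← pair_coord b η]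
    exact Finset.sum_congr rfl fun i _ => by rw [← hη]

variable [Module.Free A B] [Module.Finite A B]

theorem trace_eq_sum : (Disc.Omega.trace A B) = ∑ i, b i • (⟨b.coord i⟩ : Disc.Omega A B) := by
  refine Disc.Omega.ext (LinearMap.ext fun x => ?_)
  rw [omega_sum_apply]
  show Algebra.trace A B x = _
  rw [Algebra.trace_eq_matrix_trace b, Matrix.trace]
  refine Finset.sum_congr rfl fun i _ => ?_
  rw [Matrix.diag_apply, Algebra.leftMulMatrix_eq_repr_mul, Disc.Omega.smul_toLinearMap_apply,
    Module.Basis.coord_apply, mul_comm]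

include b in
theorem lmul_eq_pair_trace {ξ : B ⊗[A] B}
    (h : ξ ∈ Submodule.annihilator (RingHom.ker (Algebra.TensorProduct.lmul' (S := B) A))) :
    Algebra.TensorProduct.lmul' A ξ = pair ξ (Disc.Omega.trace A B) := by
  show _ = pairHom h (Disc.Omega.trace A B)
  rw [trace_eq_sum b, map_sum]
  conv_lhs => rw [← pair_coord b ξ, map_sum]
  refine Finset.sum_congr rfl fun i _ => ?_
  rw [Algebra.TensorProduct.lmul'_apply_tmul, map_smul, smul_eq_mul]
  rfl

include b in
theorem mem_noether_iff (x : B) :
    x ∈ Disc.noetherDifferent A B ↔ ∃ Φ : Disc.Omega A B →ₗ[B] B, Φ (Disc.Omega.trace A B) = x := by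
  have hs : Function.Surjective (Algebra.TensorProduct.lmul' (S := B) A) := fun y => ⟨y ⊗ₜ 1, by simp⟩
  rw [Disc.noetherDifferent, Ideal.mem_map_iff_of_surjective _ hs]
  constructor
  · rintro ⟨ξ, hξ, rfl⟩
    exact ⟨pairHom hξ, (lmul_eq_pair_trace b hξ).symm⟩
  · rintro ⟨Φ, rfl⟩
    obtain ⟨ξ, ⟨hξ, hΦ⟩, -⟩ := existsUnique_pair b Φ
    exact ⟨ξ, hξ, by rw [lmul_eq_pair_trace b hξ, hΦ]⟩

omit b in
theorem mem_differentSet_iff (x : B) :
    x ∈ Disc.differentSet A B ↔ ∀ φ : Disc.Omega A B, ∃ c : B, c • Disc.Omega.trace A B = x • φ := by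
  constructor
  · intro h φ
    obtain ⟨c, hc⟩ := h φ.toLinearMap
    exact ⟨c, Disc.Omega.ext (LinearMap.ext fun y => (hc y).symm)⟩
  · intro h φ
    obtain ⟨c, hc⟩ := h ⟨φ⟩
    exact ⟨c, fun y => (LinearMap.congr_fun (congrArg Disc.Omega.toLinearMap hc) y).symm⟩

include b in
theorem noether_subset_different :
    (Disc.noetherDifferent A B : Set B) ⊆ Disc.differentSet A B := by
  intro x hx
  obtain ⟨Φ, rfl⟩ := (mem_noether_iff b x).1 hx
  refine (mem_differentSet_iff _).2 fun ψ => ⟨Φ ψ, Disc.Omega.ext (LinearMap.ext fun y => ?_)⟩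
  simp only [Disc.Omega.smul_toLinearMap_apply]
  show Algebra.trace A B (Φ ψ * y) = _
  let e := fun k => Φ ⟨b.coord k⟩
  have hΦ : ∀ l, Φ l = ∑ k, l.toLinearMap (b k) • e k := by
    intro l
    conv_lhs => rw [← omega_eq_sum b l, map_sum]
    exact Finset.sum_congr rfl fun k _ => by rw [map_smul, smul_eq_mul, ← Algebra.smul_def]
  have h1 : Algebra.trace A B (Φ ψ * y) = ∑ i, b.coord i (Φ ((y * b i) • ψ)) := by
    rw [show Algebra.trace A B (Φ ψ * y) = (Disc.Omega.trace A B).toLinearMap (Φ ψ * y) from rfl,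
      trace_eq_sum b, omega_sum_apply]
    refine Finset.sum_congr rfl fun i _ => ?_
    rw [Disc.Omega.smul_toLinearMap_apply, map_smul, smul_eq_mul]
    congr 1; ring
  have h3 : Φ (Disc.Omega.trace A B) = ∑ k, b k * e k := by
    rw [trace_eq_sum b, map_sum]
    exact Finset.sum_congr rfl fun k _ => by rw [map_smul, smul_eq_mul]
  rw [h1, h3, Finset.sum_mul, map_sum]
  simp only [hΦ, map_sum, map_smul, Disc.Omega.smul_toLinearMap_apply]
  rw [Finset.sum_comm]
  refine Finset.sum_congr rfl fun k _ => ?_
  conv_rhs => rw [show b k * e k * y = ∑ i, b.coord i (e k) • (y * b i * b k) by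
    conv_lhs => rw [← b.sum_repr (e k)]
    simp only [Finset.mul_sum, Finset.sum_mul, Module.Basis.coord_apply]
    exact Finset.sum_congr rfl fun i _ => by rw [mul_smul_comm, smul_mul_assoc]; congr 1; ring]
  rw [map_sum]
  exact Finset.sum_congr rfl fun i _ => by rw [map_smul, smul_eq_mul, smul_eq_mul, mul_comm]

include b in
theorem sq_mem_noether {d : B} (hd : d ∈ Disc.differentSet A B) :
    d ^ 2 ∈ Disc.noetherDifferent A B := by
  choose e he using fun i => (mem_differentSet_iff d).1 hd ⟨b.coord i⟩
  let E := fun l : Disc.Omega A B => ∑ i, algebraMap A B (l.toLinearMap (b i)) * e i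
  have hE : ∀ l, E l • Disc.Omega.trace A B = d • l := by
    intro l
    conv_rhs => rw [← omega_eq_sum b l, Finset.smul_sum]
    rw [Finset.sum_smul]
    exact Finset.sum_congr rfl fun i _ => by rw [mul_smul, he, smul_comm]
  have hz : ∀ z : B, z • Disc.Omega.trace A B = 0 → d * z = 0 := by
    intro z h0
    refine b.ext_elem fun i => ?_
    have h1 := LinearMap.congr_fun (congrArg Disc.Omega.toLinearMap (he i)) z
    have h2 := LinearMap.congr_fun (congrArg Disc.Omega.toLinearMap h0) (e i)
    simp only [Disc.Omega.smul_toLinearMap_apply, Module.Basis.coord_apply, Disc.Omega.zero_toLinearMap,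
      LinearMap.zero_apply] at h1 h2
    rw [map_zero, Finsupp.zero_apply, ← h1, mul_comm, h2]
  let Φ : Disc.Omega A B →ₗ[B] B :=
    { toFun := fun l => d * E l
      map_add' := fun l m => by
        simp only [E, Disc.Omega.add_toLinearMap, LinearMap.add_apply, map_add, add_mul,
          Finset.sum_add_distrib, mul_add]
      map_smul' := fun s l => by
        have := hz (E (s • l) - s * E l) (by rw [sub_smul, mul_smul, hE, hE, smul_comm, sub_self])
        rw [mul_sub, sub_eq_zero] at this
        rw [this, RingHom.id_apply, smul_eq_mul, mul_left_comm] }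
  refine (mem_noether_iff b _).2 ⟨Φ, ?_⟩
  have := hz (E (Disc.Omega.trace A B) - d) (by rw [sub_smul, hE, sub_self])
  rw [mul_sub, sub_eq_zero] at this
  rw [pow_two, ← this]
  rfl

include b in
theorem differentSet_eq_noether [Module.Invertible B (Disc.Omega A B)] :
    Disc.differentSet A B = (Disc.noetherDifferent A B : Set B) := by
  refine Set.Subset.antisymm (fun x hx => ?_) (noether_subset_different b)
  obtain ⟨t, ht⟩ := (Module.Invertible.linearEquiv B (Disc.Omega A B)).surjective 1
  suffices key : ∀ t : Module.Dual B (Disc.Omega A B) ⊗[B] Disc.Omega A B,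
      x * Module.Invertible.linearEquiv B (Disc.Omega A B) t ∈ Disc.noetherDifferent A B by
    have := key t
    rwa [ht, mul_one] at this
  intro t
  induction t using TensorProduct.induction_on with
  | zero => simp
  | add y z hy hz => rw [map_add, mul_add]; exact Ideal.add_mem _ hy hz
  | tmul f φ =>
    obtain ⟨c, hc⟩ := (mem_differentSet_iff x).1 hx φ
    show x * f φ ∈ _
    rw [← smul_eq_mul, ← map_smul, ← hc, map_smul]
    exact Ideal.mul_mem_left _ _ ((mem_noether_iff b _).2 ⟨f, rfl⟩)

omit [Module.Free A B] [Module.Finite A B]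

/-- The matrix `φ(b_i b_j)`. -/
noncomputable def formMatrix (φ : Disc.Omega A B) : Matrix ι ι A :=
  Matrix.of fun i j => φ.toLinearMap (b i * b j)

theorem formMatrix_smul (x : B) (φ : Disc.Omega A B) :
    formMatrix b (x • φ) = (Algebra.leftMulMatrix b x)ᵀ * formMatrix b φ := by
  ext i j
  show φ.toLinearMap (x * (b i * b j)) = ∑ k, Algebra.leftMulMatrix b x k i * φ.toLinearMap (b k * b j)
  rw [← mul_assoc]
  conv_lhs => rw [← b.sum_repr (x * b i)]
  simp only [Finset.sum_mul, map_sum, smul_mul_assoc, map_smul, smul_eq_mul, Algebra.leftMulMatrix_eq_repr_mul]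

theorem det_formMatrix_smul (x : B) (φ : Disc.Omega A B) :
    (formMatrix b (x • φ)).det = Algebra.norm A x * (formMatrix b φ).det := by
  rw [formMatrix_smul, Matrix.det_mul, Matrix.det_transpose, ← Algebra.norm_eq_matrix_det]

/-- If every coordinate form times `x` is a multiple of `g`, then `det g ∣ N(x)`. -/
theorem det_dvd_norm (x : B) (g : Disc.Omega A B) (e : ι → B)
    (he : ∀ i, x • (⟨b.coord i⟩ : Disc.Omega A B) = e i • g) :
    (formMatrix b g).det ∣ Algebra.norm A x := by
  have : Algebra.leftMulMatrix b x = Matrix.of (fun i k => b.repr (e i) k) * formMatrix b g := by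
    ext i j
    have h := LinearMap.congr_fun (congrArg Disc.Omega.toLinearMap (he i)) (b j)
    simp only [Disc.Omega.smul_toLinearMap_apply, Module.Basis.coord_apply] at h
    rw [Algebra.leftMulMatrix_eq_repr_mul, h]
    conv_lhs => rw [← b.sum_repr (e i)]
    simp only [Finset.sum_mul, map_sum, smul_mul_assoc, map_smul, smul_eq_mul, Matrix.mul_apply, formMatrix,
      Matrix.of_apply]
  rw [Algebra.norm_eq_matrix_det b, this, Matrix.det_mul]
  exact dvd_mul_left _ _

omit [Fintype ι] in
variable [Module.Free A B] [Module.Finite A B] in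
theorem formMatrix_trace : formMatrix b (Disc.Omega.trace A B) = Algebra.traceMatrix A b := by
  ext i j
  rw [Algebra.traceMatrix_apply, Algebra.traceForm_apply]
  rfl

variable [Module.Free A B] [Module.Finite A B]

theorem norm_mem_span_discr (x : B) (hx : x ∈ Disc.differentSet A B) :
    Algebra.norm A x ∈ Ideal.span {Algebra.discr A b} := by
  choose e he using fun i => (mem_differentSet_iff x).1 hx ⟨b.coord i⟩
  have h := det_dvd_norm b x (Disc.Omega.trace A B) e fun i => (he i).symm
  rw [formMatrix_trace, ← Algebra.discr_def] at h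
  exact Ideal.mem_span_singleton.2 h

theorem exists_local_generator [Module.Invertible B (Disc.Omega A B)] (m : Ideal A) [m.IsMaximal] :
    ∃ (g : Disc.Omega A B) (r : B), Algebra.norm A r ∉ m ∧ ∀ φ : Disc.Omega A B, ∃ c : B, c • g = r • φ := by
  let J : Ideal B := m.map (algebraMap A B)
  let _ : Field (A ⧸ m) := Ideal.Quotient.field m
  have : Module.Finite (A ⧸ m) (B ⧸ J) := Module.Finite.of_restrictScalars_finite A (A ⧸ m) (B ⧸ J)
  have : IsArtinianRing (B ⧸ J) := IsArtinianRing.of_finite (A ⧸ m) (B ⧸ J)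
  let N := (B ⧸ J) ⊗[B] Disc.Omega A B
  obtain ⟨f⟩ := Module.Invertible.free_iff_linearEquiv.1 (inferInstance : Module.Free (B ⧸ J) N)
  have hsurj : Function.Surjective (TensorProduct.mk B (B ⧸ J) (Disc.Omega A B) 1) :=
    TensorProduct.mk_surjective B (Disc.Omega A B) (B ⧸ J) Ideal.Quotient.mk_surjective
  obtain ⟨g, hg⟩ := hsurj (f.symm 1)
  let W := Submodule.span B {g}
  have hle : (⊤ : Submodule B (Disc.Omega A B ⧸ W)) ≤ J • ⊤ := by
    rintro z -
    obtain ⟨φ, rfl⟩ := W.mkQ_surjective z
    obtain ⟨c, hc⟩ := Ideal.Quotient.mk_surjective (f (TensorProduct.mk B (B ⧸ J) (Disc.Omega A B) 1 φ))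
    have h0 : TensorProduct.mk B (B ⧸ J) (Disc.Omega A B) 1 (φ - c • g) = 0 := by
      rw [map_sub, map_smul, hg, sub_eq_zero]
      apply f.injective
      rw [← hc, show c • f.symm 1 = Ideal.Quotient.mk J c • f.symm 1 from
        (algebraMap_smul (B ⧸ J) c _).symm, map_smul, f.apply_symm_apply, smul_eq_mul, mul_one]
    have h1 : φ - c • g ∈ J • (⊤ : Submodule B (Disc.Omega A B)) := by
      have := congrArg (TensorProduct.quotTensorEquivQuotSMul (Disc.Omega A B) J) h0
      rw [map_zero, TensorProduct.mk_apply, ← map_one (Ideal.Quotient.mk J),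
        TensorProduct.quotTensorEquivQuotSMul_mk_tmul, one_smul] at this
      exact (Submodule.Quotient.mk_eq_zero _).1 this
    have h2 := Submodule.mem_map_of_mem (f := W.mkQ) h1
    rw [Submodule.map_smul'', Submodule.map_top, Submodule.range_mkQ, map_sub, map_smul] at h2
    rwa [show W.mkQ g = 0 from (Submodule.Quotient.mk_eq_zero _).2 (Submodule.mem_span_singleton_self g),
      smul_zero, sub_zero] at h2
  obtain ⟨r, hr1, hr0⟩ := Submodule.exists_sub_one_mem_and_smul_eq_zero_of_fg_of_le_smul J ⊤ Module.Finite.fg_top hle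
  refine ⟨g, r, fun hn => ?_, fun φ => ?_⟩
  · classical
    let b₀ := Module.Free.chooseBasis A B
    let π := Ideal.Quotient.mk m
    have hrepr : ∀ y ∈ J, ∀ i, b₀.repr y i ∈ m := by
      intro y hy i
      have : y ∈ Submodule.restrictScalars A J := hy
      rw [← Ideal.smul_top_eq_map] at this
      refine Submodule.smul_induction_on this (fun a ha z _ => ?_) (fun y z hy hz => ?_)
      · rw [map_smul, Finsupp.smul_apply, smul_eq_mul]; exact m.mul_mem_right _ ha
      · rw [map_add, Finsupp.add_apply]; exact add_mem hy hz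
    have : π.mapMatrix (Algebra.leftMulMatrix b₀ r) = 1 := by
      ext i j
      rw [RingHom.mapMatrix_apply, Matrix.map_apply, Algebra.leftMulMatrix_eq_repr_mul]
      have h := hrepr ((r - 1) * b₀ j) (J.mul_mem_right _ hr1) i
      rw [sub_mul, one_mul, map_sub, Finsupp.sub_apply, ← Ideal.Quotient.mk_eq_mk_iff_sub_mem] at h
      rw [h, b₀.repr_self, Matrix.one_apply, Finsupp.single_apply]
      by_cases hij : i = j
      · subst hij; simp [π]
      · simp [hij, Ne.symm hij, π]
    have hdet := congrArg Matrix.det this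
    rw [← RingHom.map_det, ← Algebra.norm_eq_matrix_det, Matrix.det_one,
      show π (Algebra.norm A r) = 0 from Ideal.Quotient.eq_zero_iff_mem.2 hn] at hdet
    exact zero_ne_one hdet
  · have := hr0 (W.mkQ φ) trivial
    rw [← map_smul, Submodule.mkQ_apply, Submodule.Quotient.mk_eq_zero, Submodule.mem_span_singleton] at this
    exact this

theorem span_norm_eq_span_discr [Module.Invertible B (Disc.Omega A B)] :
    Ideal.span (Algebra.norm A '' Disc.differentSet A B) = Ideal.span {Algebra.discr A b} := by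
  refine le_antisymm (Ideal.span_le.2 ?_) ?_
  · rintro _ ⟨x, hx, rfl⟩
    exact norm_mem_span_discr b x hx
  · rw [Ideal.span_singleton_le_iff_mem]
    let S := Ideal.span (Algebra.norm A '' Disc.differentSet A B)
    suffices htop : Submodule.colon S {Algebra.discr A b} = ⊤ by
      have := (Ideal.eq_top_iff_one _).1 htop
      rwa [Submodule.mem_colon_singleton, one_smul] at this
    by_contra hne
    obtain ⟨m, hm, hle⟩ := Ideal.exists_le_maximal _ hne
    obtain ⟨g, r, hr, hg⟩ := exists_local_generator (A := A) (B := B) m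
    obtain ⟨c, hc⟩ := hg (Disc.Omega.trace A B)
    choose e he using fun i => hg ⟨b.coord i⟩
    have hd : r * c ∈ Disc.differentSet A B := (mem_differentSet_iff _).2 fun φ => by
      obtain ⟨k, hk⟩ := hg φ
      exact ⟨k * r, by rw [mul_smul, ← hc, mul_comm r c, mul_smul, ← hk, smul_comm]⟩
    obtain ⟨q, hq⟩ := det_dvd_norm b r g e fun i => (he i).symm
    have h1 := congrArg (fun φ => (formMatrix b φ).det) hc
    simp only [det_formMatrix_smul, formMatrix_trace, ← Algebra.discr_def] at h1
    have hmem : Algebra.norm A r ^ 2 ∈ Submodule.colon S {Algebra.discr A b} := by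
      rw [Submodule.mem_colon_singleton, smul_eq_mul,
        show Algebra.norm A r ^ 2 * Algebra.discr A b =
          Algebra.norm A (r * c) * (formMatrix b g).det by rw [map_mul, pow_two, mul_assoc, ← h1]; ring]
      exact Ideal.mul_mem_right _ _ (Ideal.subset_span ⟨_, hd, rfl⟩)
    exact hr (hm.isPrime.mem_of_pow_mem 2 (hle hmem))

include b in
theorem differentSet_subset_iff (q : Ideal B) [q.IsPrime] :
    Disc.differentSet A B ⊆ q ↔ ¬Algebra.IsUnramifiedAt A q := by
  rw [← noether_le_iff_not_unramifiedAt]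
  exact ⟨fun h x hx => h (noether_subset_different b hx),
    fun h x hx => Ideal.IsPrime.mem_of_pow_mem inferInstance 2 (h (sq_mem_noether b hx))⟩

end Free

end QFDualLib
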