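import Mathlib

/-! Trace, norm and discriminant of finite free algebras: base change, integrality, étaleness. -/

set_option autoImplicit false

universe u v w z

open Matrix Polynomial TensorProduct

namespace QFDualLib

section BC

variable {A A' B B' : Type*} [CommRing A] [CommRing A'] [CommRing B] [CommRing B']
  [Algebra A A'] [Algebra A B] [Algebra A' B'] [Algebra B B'] [Algebra A B']
  [IsScalarTower A A' B'] [IsScalarTower A B B']
  {ι : Type*} [Fintype ι] [DecidableEq ι] (b : Module.Basis ι A B) (b' : Module.Basis ι A' B')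
  (hb : ∀ i, b' i = algebraMap B B' (b i))

include hb

omit [DecidableEq ι] in
theorem repr_map (x : B) (i : ι) :
    b'.repr (algebraMap B B' x) i = algebraMap A A' (b.repr x i) := by
  have : algebraMap B B' x = ∑ j, algebraMap A A' (b.repr x j) • b' j := by
    conv_lhs => rw [← b.sum_repr x]
    simp only [map_sum, hb]
    refine Finset.sum_congr rfl fun j _ => ?_
    rw [algebraMap_smul, Algebra.smul_def, Algebra.smul_def, map_mul, ← IsScalarTower.algebraMap_apply]
  rw [this, b'.repr_sum_self]

theorem leftMulMatrix_map (x : B) :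
    Algebra.leftMulMatrix b' (algebraMap B B' x) = (Algebra.leftMulMatrix b x).map (algebraMap A A') := by
  ext i j
  rw [Matrix.map_apply, Algebra.leftMulMatrix_eq_repr_mul, Algebra.leftMulMatrix_eq_repr_mul, hb,
    ← map_mul, repr_map b b' hb]

theorem trace_map (x : B) :
    Algebra.trace A' B' (algebraMap B B' x) = algebraMap A A' (Algebra.trace A B x) := by
  rw [Algebra.trace_eq_matrix_trace b', Algebra.trace_eq_matrix_trace b, leftMulMatrix_map b b' hb,
    AddMonoidHom.map_trace]

theorem norm_map (x : B) :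
    Algebra.norm A' (algebraMap B B' x) = algebraMap A A' (Algebra.norm A x) := by
  rw [Algebra.norm_eq_matrix_det b', Algebra.norm_eq_matrix_det b, leftMulMatrix_map b b' hb,
    RingHom.map_det, RingHom.mapMatrix_apply]

theorem traceMatrix_map :
    Algebra.traceMatrix A' b' = (Algebra.traceMatrix A b).map (algebraMap A A') := by
  ext i j
  simp only [Algebra.traceMatrix_apply, Algebra.traceForm_apply, Matrix.map_apply]
  rw [hb, hb, ← map_mul, trace_map b b' hb]

theorem discr_map : Algebra.discr A' b' = algebraMap A A' (Algebra.discr A b) := by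
  rw [Algebra.discr_def, Algebra.discr_def, traceMatrix_map b b' hb, RingHom.map_det,
    RingHom.mapMatrix_apply]

end BC

section Integral

variable {A K : Type*} [CommRing A] [CommRing K] [Algebra A K]

/-- Integrality can be tested at the residue fields. -/
theorem isIntegral_of_forall_prime (c : K)
    (h : ∀ P : Ideal K, P.IsPrime → ∃ q : A[X], q.Monic ∧ aeval c q ∈ P) : IsIntegral A c := by
  let S : Submonoid K :=
    { carrier := {y | ∃ q : A[X], q.Monic ∧ aeval c q = y}
      one_mem' := ⟨1, monic_one, map_one _⟩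
      mul_mem' := fun {y z} ⟨q, hq, hy⟩ ⟨r, hr, hz⟩ => ⟨q * r, hq.mul hr, by rw [map_mul, hy, hz]⟩ }
  by_cases h0 : (0 : K) ∈ S
  · obtain ⟨q, hq, hy⟩ := h0
    exact ⟨q, hq, hy⟩
  · have hd : Disjoint ((⊥ : Ideal K) : Set K) (S : Set K) := by
      rw [Set.disjoint_left]
      intro y hy hyS
      rw [SetLike.mem_coe, Submodule.mem_bot] at hy
      exact h0 (hy ▸ hyS)
    obtain ⟨P, hP, -, hPS⟩ := Ideal.exists_le_prime_disjoint ⊥ S hd
    obtain ⟨q, hq, hqP⟩ := h P hP
    exact absurd (show aeval c q ∈ S from ⟨q, hq, rfl⟩) (Set.disjoint_left.1 hPS hqP)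

variable {n : Type*} [Fintype n] [DecidableEq n]

theorem isIntegral_trace_det_field {F : Type*} [Field F] [IsAlgClosed F] [Algebra A F] {M : Matrix n n F}
    (hM : IsIntegral A M) : IsIntegral A M.trace ∧ IsIntegral A M.det := by
  have hr : ∀ μ ∈ M.charpoly.roots, IsIntegral A μ := by
    intro μ hμ
    obtain ⟨p, hp, hpM⟩ := hM
    refine ⟨p, hp, ?_⟩
    have hμ' : μ ∈ spectrum F M :=
      Matrix.mem_spectrum_of_isRoot_charpoly (Polynomial.isRoot_of_mem_roots hμ)
    have h1 := spectrum.subset_polynomial_aeval M (p.map (algebraMap A F)) ⟨μ, hμ', rfl⟩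
    rw [aeval_map_algebraMap, aeval_def, hpM] at h1
    have : Nontrivial (Matrix n n F) := by
      by_contra hn
      rw [not_nontrivial_iff_subsingleton] at hn
      rw [spectrum.of_subsingleton] at hμ'
      exact hμ'
    rw [spectrum.zero_eq, Set.mem_singleton_iff] at h1
    simp only [eval_map] at h1
    exact h1
  refine ⟨?_, ?_⟩
  · rw [Matrix.trace_eq_sum_roots_charpoly]
    exact IsIntegral.multiset_sum hr
  · rw [Matrix.det_eq_prod_roots_charpoly]
    exact IsIntegral.multiset_prod hr

theorem isIntegral_trace_det {M : Matrix n n K} (hM : IsIntegral A M) :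
    IsIntegral A M.trace ∧ IsIntegral A M.det := by
  suffices key : ∀ P : Ideal K, P.IsPrime →
      (∃ q : A[X], q.Monic ∧ aeval M.trace q ∈ P) ∧ ∃ q : A[X], q.Monic ∧ aeval M.det q ∈ P from
    ⟨isIntegral_of_forall_prime _ fun P hP => (key P hP).1,
      isIntegral_of_forall_prime _ fun P hP => (key P hP).2⟩
  intro P hP
  let F := AlgebraicClosure (FractionRing (K ⧸ P))
  let φ : K →ₐ[A] F := (IsScalarTower.toAlgHom A (K ⧸ P) F).comp (Ideal.Quotient.mkₐ A P)
  have hker : ∀ y, φ y = 0 → y ∈ P := by
    intro y hy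
    have h1 : algebraMap (K ⧸ P) F (Ideal.Quotient.mk P y) = 0 := hy
    rw [IsScalarTower.algebraMap_apply (K ⧸ P) (FractionRing (K ⧸ P)) F, map_eq_zero,
      IsFractionRing.to_map_eq_zero_iff] at h1
    exact Ideal.Quotient.eq_zero_iff_mem.1 h1
  have hM' : IsIntegral A (φ.mapMatrix M) := hM.map φ.mapMatrix
  have h2 := isIntegral_trace_det_field hM'
  have ht : (φ.mapMatrix M).trace = φ M.trace := by
    rw [AlgHom.mapMatrix_apply]; exact (AddMonoidHom.map_trace φ.toRingHom.toAddMonoidHom M).symm
  have hd : (φ.mapMatrix M).det = φ M.det := (AlgHom.map_det φ M).symm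
  rw [ht, hd] at h2
  obtain ⟨⟨q, hq, h⟩, r, hr, h'⟩ := h2
  exact ⟨⟨q, hq, hker _ ((aeval_algHom_apply φ _ q).symm.trans h)⟩,
    r, hr, hker _ ((aeval_algHom_apply φ _ r).symm.trans h')⟩

variable {L : Type*} [CommRing L] [Algebra K L] [Algebra A L] [IsScalarTower A K L]
  [Module.Free K L] [Module.Finite K L]

theorem isIntegral_trace_norm {x : L} (hx : IsIntegral A x) :
    IsIntegral A (Algebra.trace K L x) ∧ IsIntegral A (Algebra.norm K x) := by
  classical
  let b := Module.Free.chooseBasis K L
  rw [Algebra.trace_eq_matrix_trace b, Algebra.norm_eq_matrix_det b]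
  exact isIntegral_trace_det (hx.map ((Algebra.leftMulMatrix b).restrictScalars A))

end Integral

section Etale

theorem trace_pi_single {k : Type*} [Field k] {I : Type*} [Fintype I] [DecidableEq I] {Ai : I → Type*}
    [∀ i, CommRing (Ai i)] [∀ i, Algebra k (Ai i)] [∀ i, Module.Finite k (Ai i)] (i : I) (z : Ai i) :
    Algebra.trace k (Π i, Ai i) (Pi.single i z) = Algebra.trace k (Ai i) z := by
  have h1 : Algebra.lmul k (Π i, Ai i) (Pi.single i z) =
      LinearMap.single k Ai i ∘ₗ (Algebra.lmul k (Ai i) z ∘ₗ LinearMap.proj i) := by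
    refine LinearMap.ext fun y => funext fun j => ?_
    by_cases hj : j = i
    · subst hj; simp
    · simp [hj]
  have h2 : (Algebra.lmul k (Ai i) z ∘ₗ LinearMap.proj i) ∘ₗ LinearMap.single k Ai i =
      Algebra.lmul k (Ai i) z := by
    refine LinearMap.ext fun y => ?_
    simp
  rw [Algebra.trace_apply, Algebra.trace_apply, h1, LinearMap.trace_comp_comm', h2]

theorem traceForm_injective_field (k : Type v) (S : Type u) [Field k] [CommRing S] [Algebra k S]
    [Algebra.Etale k S] (x : S) (hx : ∀ y, Algebra.trace k S (x * y) = 0) : x = 0 := by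
  classical
  obtain ⟨I, _, Ai, _, _, e, hAi⟩ := (Algebra.Etale.iff_exists_algEquiv_prod k S).1 ‹_›
  have := Fintype.ofFinite I
  have := fun i => (hAi i).1
  have := fun i => (hAi i).2
  refine e.injective (funext fun i => ?_)
  rw [map_zero, Pi.zero_apply]
  refine (traceForm_nondegenerate k (Ai i)).1 (e x i) fun z => ?_
  rw [Algebra.traceForm_apply, ← trace_pi_single i (e x i * z), ← Algebra.trace_eq_of_algEquiv e.symm]
  rw [← hx (e.symm (Pi.single i z))]
  congr 1
  apply e.injective
  rw [AlgEquiv.apply_symm_apply, map_mul, AlgEquiv.apply_symm_apply]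
  funext j
  by_cases hj : j = i
  · subst hj; simp
  · simp [hj]

variable {K : Type v} {L : Type u} [CommRing K] [CommRing L] [Algebra K L]
  {ι : Type w} [Fintype ι] [DecidableEq ι] (b : Module.Basis ι K L)

theorem mulVec_traceMatrix (c : ι → K) (i : ι) :
    (Algebra.traceMatrix K b *ᵥ c) i = Algebra.trace K L (b i * ∑ j, c j • b j) := by
  simp [Matrix.mulVec, dotProduct, Algebra.traceMatrix_apply, Algebra.traceForm_apply, Finset.mul_sum,
    mul_comm]

theorem discr_ne_zero_field {k : Type z} {S : Type u} [Field k] [CommRing S] [Algebra k S]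
    [Algebra.Etale k S] (b' : Module.Basis ι k S) : Algebra.discr k b' ≠ 0 := by
  intro h0
  obtain ⟨c, hc, hc0⟩ := Matrix.exists_mulVec_eq_zero_iff.2 ((Algebra.discr_def k b').symm.trans h0)
  refine hc ?_
  have hx : ∑ j, c j • b' j = 0 := by
    refine traceForm_injective_field k S _ fun y => ?_
    rw [← b'.sum_repr y]
    simp only [Finset.mul_sum, map_sum, mul_smul_comm, map_smul]
    refine Finset.sum_eq_zero fun i _ => ?_
    have := congrFun hc0 i
    rw [mulVec_traceMatrix] at this
    simp only [Finset.mul_sum, mul_smul_comm] at this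
    have hcomm : ∀ x, Algebra.trace k S (c x • b' x * b' i) = Algebra.trace k S (c x • (b' i * b' x)) :=
      fun x => by rw [smul_mul_assoc, mul_comm]
    rw [Finset.sum_mul, map_sum, Finset.sum_congr rfl fun x _ => hcomm x, ← map_sum, this]
    simp
  funext j
  simpa using Fintype.linearIndependent_iff.1 b'.linearIndependent c hx j

theorem isUnit_discr_of_etale [Algebra.Etale K L] : IsUnit (Algebra.discr K b) := by
  by_contra h
  obtain ⟨P, hP, hmem⟩ := exists_max_ideal_of_mem_nonunits h
  let k := K ⧸ P
  let _ : Field k := Ideal.Quotient.field P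
  let S := k ⊗[K] L
  let _ : Algebra L S := Algebra.TensorProduct.rightAlgebra
  let b' : Module.Basis ι k S := Algebra.TensorProduct.basis k b
  have hb : ∀ i, b' i = algebraMap L S (b i) := fun i => Algebra.TensorProduct.basis_apply b i
  refine discr_ne_zero_field b' ?_

  rw [discr_map b b' hb]
  exact Ideal.Quotient.eq_zero_iff_mem.2 hmem

theorem eq_zero_of_trace_mul (hu : IsUnit (Algebra.discr K b)) (x : L)
    (hx : ∀ i, Algebra.trace K L (x * b i) = 0) : x = 0 := by
  have h1 : Algebra.traceMatrix K b *ᵥ (fun j => b.repr x j) = 0 := by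
    funext i
    rw [mulVec_traceMatrix, b.sum_repr, mul_comm, hx i, Pi.zero_apply]
  have h2 : (fun j => b.repr x j) = 0 := by
    refine Matrix.mulVec_injective_of_isUnit ((Matrix.isUnit_iff_isUnit_det _).2 ?_)
      (h1.trans (Matrix.mulVec_zero _).symm)
    rwa [← Algebra.discr_def]
  exact b.ext_elem fun i => by simpa using congrFun h2 i

theorem exists_trace_mul_eq (hu : IsUnit (Algebra.discr K b)) (φ : L →ₗ[K] K) :
    ∃ x : L, ∀ y, Algebra.trace K L (x * y) = φ y := by
  obtain ⟨c, hc⟩ := (Matrix.mulVec_surjective_iff_isUnit.2 ((Matrix.isUnit_iff_isUnit_det _).2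
    (Algebra.discr_def K b ▸ hu))) fun i => φ (b i)
  refine ⟨∑ j, c j • b j, fun y => ?_⟩
  rw [← b.sum_repr y]
  simp only [Finset.mul_sum, map_sum, mul_smul_comm, map_smul]
  refine Finset.sum_congr rfl fun i _ => ?_
  rw [mul_comm, ← mulVec_traceMatrix b c i, congrFun hc i]

theorem formallyUnramified_of_isUnit_discr (hu : IsUnit (Algebra.discr K b)) :
    Algebra.FormallyUnramified K L := by
  have : Module.Finite K L := Module.Finite.of_basis b
  rw [Algebra.FormallyUnramified.iff_exists_tensorProduct]
  choose d hd using fun i => exists_trace_mul_eq b hu (b.coord i)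
  have hrep : ∀ x : L, ∑ i, Algebra.trace K L (d i * x) • b i = x := fun x => by
    simp only [hd, Module.Basis.coord_apply, b.sum_repr]
  refine ⟨∑ i, b i ⊗ₜ[K] d i, fun s => ?_, ?_⟩
  · rw [sub_mul, sub_eq_zero, Finset.mul_sum, Finset.mul_sum]
    simp only [Algebra.TensorProduct.tmul_mul_tmul, one_mul]
    have h1 : ∀ i, s * b i = ∑ j, Algebra.trace K L (d j * (s * b i)) • b j := fun i => (hrep _).symm
    have h2 : ∀ j, ∑ i, Algebra.trace K L (d j * (s * b i)) • d i = s * d j := by
      intro j
      refine sub_eq_zero.1 (eq_zero_of_trace_mul b hu _ fun l => ?_)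
      rw [sub_mul, map_sub, Finset.sum_mul, map_sum, sub_eq_zero, Finset.sum_eq_single l]
      · rw [smul_mul_assoc, map_smul, hd l (b l), Module.Basis.coord_apply, b.repr_self,
          Finsupp.single_eq_same, smul_eq_mul, mul_one]
        congr 1; ring
      · intro i _ hi
        rw [smul_mul_assoc, map_smul, hd i (b l), Module.Basis.coord_apply, b.repr_self,
          Finsupp.single_eq_of_ne hi, smul_zero]
      · simp
    conv_rhs =>
      arg 2; ext i
      rw [h1 i]
    simp only [TensorProduct.sum_tmul, TensorProduct.smul_tmul]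
    rw [Finset.sum_comm]
    simp only [← TensorProduct.tmul_sum, h2]
  · simp only [map_sum, Algebra.TensorProduct.lmul'_apply_tmul]
    refine sub_eq_zero.1 (eq_zero_of_trace_mul b hu _ fun l => ?_)
    rw [sub_mul, map_sub, one_mul, sub_eq_zero, Finset.sum_mul, map_sum,
      Algebra.trace_eq_matrix_trace b (b l), Matrix.trace]
    refine Finset.sum_congr rfl fun i _ => ?_
    rw [Matrix.diag_apply, Algebra.leftMulMatrix_eq_repr_mul, ← b.coord_apply, ← hd i]
    congr 1; ring

end Etale

end QFDualLib
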