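import Groth.Agent.QFDualLib.Noether

/-! Behaviour of the Noether different and of the unramified locus under base change. -/

set_option autoImplicit false

universe u

open TensorProduct

namespace QFDualLib

theorem mem_support_baseChange {B : Type*} [CommRing B] {B' : Type*} [CommRing B'] [Algebra B B']
    (M : Type*) [AddCommGroup M] [Module B M] [Module.Finite B M] (q : PrimeSpectrum B') :
    q ∈ Module.support B' (B' ⊗[B] M) ↔ PrimeSpectrum.comap (algebraMap B B') q ∈ Module.support B M := by
  set p := PrimeSpectrum.comap (algebraMap B B') q with hp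
  let K := q.asIdeal.ResidueField
  let k := p.asIdeal.ResidueField
  have : q.asIdeal.LiesOver p.asIdeal := ⟨rfl⟩
  rw [Module.mem_support_iff_nontrivial_residueField_tensorProduct,
    Module.mem_support_iff_nontrivial_residueField_tensorProduct,
    (AlgebraTensorModule.cancelBaseChange B B' K K M).nontrivial_congr]
  let _ : Algebra k K :=
    (Ideal.ResidueField.map p.asIdeal q.asIdeal (algebraMap B B') rfl).toAlgebra
  have : IsScalarTower B k K := IsScalarTower.of_algebraMap_eq fun x => by
    rw [RingHom.algebraMap_toAlgebra]
    exact ((Ideal.ResidueField.map_algebraMap _ _ _ _ x).trans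
      (IsScalarTower.algebraMap_apply B B' K x).symm).symm
  have e := AlgebraTensorModule.cancelBaseChange B k K K M
  rw [← e.nontrivial_congr]
  refine ⟨fun h => ?_, fun h => inferInstance⟩
  by_contra hn
  rw [not_nontrivial_iff_subsingleton] at hn
  exact not_subsingleton (K ⊗[k] (k ⊗[B] M)) inferInstance

section Radical

variable {A B A' B' : Type u} [CommRing A] [CommRing B] [CommRing A'] [CommRing B']
  [Algebra A B] [Algebra A A'] [Algebra B B'] [Algebra A' B'] [Algebra A B']
  [IsScalarTower A A' B'] [IsScalarTower A B B']
  [Module.Free A B] [Module.Finite A B] [Module.Free A' B'] [Module.Finite A' B']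

theorem different_eq_differentSet :
    (QFDual.different B (Disc.Omega.trace A B) : Set B) = Disc.differentSet A B := by
  ext x
  rw [SetLike.mem_coe, QFDual.mem_different_iff, mem_differentSet_iff]

theorem radical_map_different (hB : Algebra.IsPushout A A' B B') :
    (Ideal.map (algebraMap B B') (QFDual.different B (Disc.Omega.trace A B))).radical =
      (QFDual.different B' (Disc.Omega.trace A' B')).radical := by
  classical
  refine le_antisymm (Ideal.radical_mono (map_different_le hB)) ?_
  rw [Ideal.radical_eq_sInf, Ideal.radical_eq_sInf]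
  refine le_sInf fun q hq => ?_
  obtain ⟨hqJ, hqp⟩ := hq
  refine sInf_le ⟨?_, hqp⟩
  let p : Ideal B := q.comap (algebraMap B B')
  have h1 : Disc.differentSet A B ⊆ p := by
    rw [← different_eq_differentSet]
    exact Ideal.map_le_iff_le_comap.1 hqJ
  rw [← SetLike.coe_subset_coe, different_eq_differentSet,
    differentSet_subset_iff (Module.Free.chooseBasis A' B') q]
  have : Module.Finite B Ω[B⁄A] := inferInstance
  rw [differentSet_subset_iff (Module.Free.chooseBasis A B) p] at h1
  intro h2
  apply h1
  have s1 := Set.ext_iff.1 (Algebra.unramifiedLocus_eq_compl_support (R := A) (A := B)) ⟨p, inferInstance⟩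
  have s2 := Set.ext_iff.1 (Algebra.unramifiedLocus_eq_compl_support (R := A') (A := B')) ⟨q, hqp⟩
  have := hB
  have e := (KaehlerDifferential.tensorKaehlerEquiv A A' B B').support_eq
  have s3 := mem_support_baseChange (B := B) (B' := B') Ω[B⁄A] ⟨q, hqp⟩
  rw [e] at s3
  exact s1.2 fun hh => s2.1 h2 (s3.2 hh)

end Radical

section Ann

/-- Annihilators of finitely generated ideals commute with flat extension. -/
theorem annihilator_map_of_flat {P Q : Type*} [CommRing P] [CommRing Q] [Algebra P Q] [Module.Flat P Q]
    {I : Ideal P} (hI : I.FG) :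
    Submodule.annihilator (I.map (algebraMap P Q)) =
      (Submodule.annihilator I).map (algebraMap P Q) := by
  classical
  obtain ⟨n, g, hg⟩ := Submodule.fg_iff_exists_fin_generating_family.1 hI
  refine le_antisymm (fun y hy => ?_) ?_
  · let h : P →ₗ[P] (Fin n → P) := LinearMap.pi fun i => LinearMap.mulRight P (g i)
    have hk : LinearMap.ker h = Submodule.annihilator I := by
      ext x
      rw [← hg, Submodule.mem_annihilator_span, LinearMap.mem_ker]
      simp [h, funext_iff]
    have hcomp : ∀ t i, TensorProduct.piScalarRight P P Q (Fin n) (h.lTensor Q t) i =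
        TensorProduct.rid P Q t * algebraMap P Q (g i) := by
      intro t i
      induction t using TensorProduct.induction_on with
      | zero => simp
      | add u v hu hv => simp only [map_add, Pi.add_apply, hu, hv, add_mul]
      | tmul q x => simp [h, Algebra.smul_def]; ring
    have h0 : h.lTensor Q (y ⊗ₜ (1 : P)) = 0 := by
      refine (TensorProduct.piScalarRight P P Q (Fin n)).injective (funext fun i => ?_)
      rw [map_zero, Pi.zero_apply, hcomp, TensorProduct.rid_tmul, one_smul]
      exact Submodule.mem_annihilator.1 hy _
        (Ideal.mem_map_of_mem _ (hg ▸ Submodule.subset_span (Set.mem_range_self i)))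
    obtain ⟨w, hw⟩ := ((Module.Flat.lTensor_exact Q h.exact_subtype_ker_map) _).1 h0
    have : TensorProduct.rid P Q ((LinearMap.ker h).subtype.lTensor Q w) ∈
        (Submodule.annihilator I).map (algebraMap P Q) := by
      clear hw
      induction w using TensorProduct.induction_on with
      | zero => simp
      | add u v hu hv => simp only [map_add]; exact add_mem hu hv
      | tmul q x =>
        rw [LinearMap.lTensor_tmul, TensorProduct.rid_tmul, Algebra.smul_def]
        exact Ideal.mul_mem_right _ _ (Ideal.mem_map_of_mem _ (hk ▸ x.2))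
    rwa [hw, TensorProduct.rid_tmul, one_smul] at this
  · rw [Ideal.map_le_iff_le_comap]
    intro x hx
    rw [Ideal.mem_comap, Ideal.map, Submodule.mem_annihilator_span]
    rintro ⟨_, z, hz, rfl⟩
    rw [smul_eq_mul, ← map_mul, ← smul_eq_mul, Submodule.mem_annihilator.1 hx z hz, map_zero]

variable {A B A' B' : Type*} [CommRing A] [CommRing B] [CommRing A'] [CommRing B']
  [Algebra A B] [Algebra A' B']

/-- Transport of the Noether different along a flat map of the enveloping algebras. -/
theorem noether_map (ρ : B ⊗[A] B →+* B' ⊗[A'] B') (σ : B →+* B') [Algebra.FiniteType A B]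
    (hflat : ρ.Flat)
    (hcomm : ∀ x, Algebra.TensorProduct.lmul' A' (ρ x) = σ (Algebra.TensorProduct.lmul' A x))
    (hker : (RingHom.ker (Algebra.TensorProduct.lmul' (S := B) A)).map ρ =
      RingHom.ker (Algebra.TensorProduct.lmul' (S := B') A')) :
    Disc.noetherDifferent A' B' = (Disc.noetherDifferent A B).map σ := by
  let := ρ.toAlgebra
  have : Module.Flat (B ⊗[A] B) (B' ⊗[A'] B') := hflat
  have hfg : (RingHom.ker (Algebra.TensorProduct.lmul' (S := B) A)).FG := KaehlerDifferential.ideal_fg A B
  have hann := annihilator_map_of_flat (Q := B' ⊗[A'] B') hfg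
  rw [RingHom.algebraMap_toAlgebra, hker] at hann
  rw [Disc.noetherDifferent, Disc.noetherDifferent, hann]
  show Ideal.map (Algebra.TensorProduct.lmul' (S := B') A').toRingHom (Ideal.map ρ _) =
    Ideal.map σ (Ideal.map (Algebra.TensorProduct.lmul' (S := B) A).toRingHom _)
  rw [Ideal.map_map, Ideal.map_map]
  congr 1
  exact RingHom.ext hcomm

end Ann

end QFDualLib
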