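import Groth.Agent.QFDualLib.Basic
import Groth.Prelude.Def_QFDual

/-! The Dedekind complementary module and its duality with `Hom_A(B, A)`. -/

set_option autoImplicit false

universe u

open scoped nonZeroDivisors

namespace QFDualLib

variable {A K B L : Type u} [CommRing A] [CommRing K] [CommRing B] [CommRing L] [Algebra A K]
  [Algebra A B] [Algebra B L] [Algebra K L] [Algebra A L] [IsScalarTower A K L] [IsScalarTower A B L]

theorem algebraMap_injective_KA (h : QFDual.IsDedekindDefined A K B L) :
    Function.Injective (algebraMap A K) := by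
  have := h.isFractionRing
  exact IsFractionRing.injective A K

theorem algebraMap_injective_BL (h : QFDual.IsDedekindDefined A K B L) :
    Function.Injective (algebraMap B L) := by
  have := h.isLocalization
  refine IsLocalization.injective (M := Algebra.algebraMapSubmonoid B A⁰) L ?_
  rintro _ ⟨a, ha, rfl⟩
  exact h.map_nonZeroDivisors ha

theorem exists_isUnit_discr (h : QFDual.IsDedekindDefined A K B L) :
    ∃ (n : ℕ) (b : Module.Basis (Fin n) K L), IsUnit (Algebra.discr K b) := by
  have := h.free
  have := h.finiteKL
  have := h.etale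
  let b₀ := Module.Free.chooseBasis K L
  let e := Fintype.equivFin (Module.Free.ChooseBasisIndex K L)
  exact ⟨_, b₀.reindex e, isUnit_discr_of_etale _⟩

theorem exists_mul_eq (h : QFDual.IsDedekindDefined A K B L) (y : L) :
    ∃ (b : B) (s : A), IsUnit (algebraMap A K s) ∧ algebraMap A L s * y = algebraMap B L b := by
  have := h.isFractionRing
  have := h.isLocalization
  obtain ⟨⟨b, ⟨_, s, hs, rfl⟩⟩, hy⟩ := IsLocalization.surj (Algebra.algebraMapSubmonoid B A⁰) y
  refine ⟨b, s, IsLocalization.map_units K (⟨s, hs⟩ : A⁰), ?_⟩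
  rw [← hy, mul_comm, IsScalarTower.algebraMap_apply A B L]

theorem trace_algebraMap_mul (s : A) (y : L) :
    Algebra.trace K L (algebraMap A L s * y) = algebraMap A K s * Algebra.trace K L y := by
  rw [IsScalarTower.algebraMap_apply A K L, ← Algebra.smul_def, map_smul, smul_eq_mul]

theorem eq_zero_of_trace (h : QFDual.IsDedekindDefined A K B L) (x : L)
    (hx : ∀ b : B, Algebra.trace K L (x * algebraMap B L b) = 0) : x = 0 := by
  obtain ⟨n, b, hu⟩ := exists_isUnit_discr h
  refine eq_zero_of_trace_mul b hu x fun i => ?_
  obtain ⟨c, s, hs, hc⟩ := exists_mul_eq h (b i)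
  refine hs.mul_right_eq_zero.1 ?_
  rw [← trace_algebraMap_mul, mul_left_comm, hc, hx]

theorem exists_trace_eq (h : QFDual.IsDedekindDefined A K B L) (φ : B →ₗ[A] A) :
    ∃ x ∈ QFDual.complementary A K B L, ∀ b,
      Algebra.trace K L (x * algebraMap B L b) = algebraMap A K (φ b) := by
  have := h.isFractionRing
  let f : B →ₗ[A] L := (IsScalarTower.toAlgHom A B L).toLinearMap
  have : IsLocalizedModule A⁰ f := isLocalizedModule_iff_isLocalization.2 h.isLocalization
  let g : B →ₗ[A] K := Algebra.linearMap A K ∘ₗ φ
  have hu : ∀ s : A⁰, IsUnit (algebraMap A (Module.End A K) s) := fun s =>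
    IsLocalizedModule.map_units (S := A⁰) (Algebra.linearMap A K) s
  let G : L →ₗ[K] K := (IsLocalizedModule.lift A⁰ f g hu).extendScalarsOfIsLocalization A⁰ K
  obtain ⟨n, b, hub⟩ := exists_isUnit_discr h
  obtain ⟨x, hx⟩ := exists_trace_mul_eq b hub G
  have key : ∀ c, Algebra.trace K L (x * algebraMap B L c) = algebraMap A K (φ c) := fun c => by
    rw [hx]
    exact IsLocalizedModule.lift_apply A⁰ f g hu c
  exact ⟨x, fun c => ⟨φ c, (key c).symm⟩, key⟩

/-- `𝓛_{B/A} ≃ Hom_A(B, A)`. -/
theorem exists_equiv (h : QFDual.IsDedekindDefined A K B L) :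
    ∃ e : QFDual.complementary A K B L ≃ₗ[B] Disc.Omega A B,
      ∀ (x : QFDual.complementary A K B L) (b : B),
        algebraMap A K ((e x).toLinearMap b) = Algebra.trace K L ((x : L) * algebraMap B L b) := by
  have hK := algebraMap_injective_KA h
  have hx : ∀ (x : QFDual.complementary A K B L) (b : B),
      ∃ a, algebraMap A K a = Algebra.trace K L ((x : L) * algebraMap B L b) := fun x b => x.2 b
  choose F hF using hx
  let e0 : QFDual.complementary A K B L →ₗ[B] Disc.Omega A B :=
    { toFun := fun x =>
        ⟨{ toFun := F x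
           map_add' := fun b c => hK (by rw [map_add, hF, hF, hF, map_add, mul_add, map_add])
           map_smul' := fun a b => hK (by
             rw [RingHom.id_apply, smul_eq_mul, map_mul (algebraMap A K), hF, hF, Algebra.smul_def,
               map_mul (algebraMap B L),
               ← IsScalarTower.algebraMap_apply A B L, mul_left_comm, trace_algebraMap_mul]) }⟩
      map_add' := fun x y => Disc.Omega.ext (LinearMap.ext fun b => hK (by
        simp only [Disc.Omega.add_toLinearMap, LinearMap.coe_mk, AddHom.coe_mk, LinearMap.add_apply,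
          map_add, hF, Submodule.coe_add, add_mul]))
      map_smul' := fun c x => Disc.Omega.ext (LinearMap.ext fun b => hK (by
        simp only [RingHom.id_apply, Disc.Omega.smul_toLinearMap_apply, LinearMap.coe_mk, AddHom.coe_mk,
          hF, SetLike.val_smul, Algebra.smul_def, map_mul]
        congr 1; ring)) }
  have h1 : Function.Injective e0 := fun x y hxy => by
    refine Subtype.ext (sub_eq_zero.1 (eq_zero_of_trace h _ fun b => ?_))
    rw [sub_mul, map_sub, ← hF x b, ← hF y b, sub_eq_zero]
    exact congrArg (algebraMap A K) (LinearMap.congr_fun (congrArg Disc.Omega.toLinearMap hxy) b)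
  have h2 : Function.Surjective e0 := fun φ => by
    obtain ⟨x, hxm, hx⟩ := exists_trace_eq h φ.toLinearMap
    exact ⟨⟨x, hxm⟩, Disc.Omega.ext (LinearMap.ext fun b => hK ((hF _ b).trans (hx b)))⟩
  exact ⟨LinearEquiv.ofBijective e0 ⟨h1, h2⟩, fun x b => hF x b⟩

theorem trace_mul_one_mem (h : ∀ b : B, Algebra.trace K L (algebraMap B L b) ∈ (algebraMap A K).range) :
    (1 : L) ∈ QFDual.complementary A K B L := fun b => by rw [one_mul]; exact h b

/-- For `B` finite flat over noetherian `A`, traces of elements of `B` lie in `A`. -/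
theorem trace_mem_of_flat (h : QFDual.IsDedekindDefined A K B L) [Module.Flat A B] (b : B) :
    Algebra.trace K L (algebraMap B L b) ∈ (algebraMap A K).range := by
  classical
  have := h.isFractionRing
  have := h.isNoetherianRing
  have := h.finite
  have := h.free
  have := h.finiteKL
  have := h.isLocalization
  have : Module.FinitePresentation A B := Module.finitePresentation_of_finite A B
  have : Module.Projective A B := Module.Flat.projective_of_finitePresentation
  obtain ⟨n, p, hp⟩ := Module.Finite.exists_fin' A B
  obtain ⟨i, hi⟩ := Module.projective_lifting_property p LinearMap.id hp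
  let f : B →ₗ[A] L := (IsScalarTower.toAlgHom A B L).toLinearMap
  have : IsLocalizedModule A⁰ f := isLocalizedModule_iff_isLocalization.2 h.isLocalization
  let g : (Fin n → A) →ₗ[A] (Fin n → K) :=
    LinearMap.pi fun j => Algebra.linearMap A K ∘ₗ LinearMap.proj j
  have : IsLocalizedModule A⁰ g := IsLocalizedModule.pi A⁰ (fun _ : Fin n => Algebra.linearMap A K)
  let I : L →ₗ[K] (Fin n → K) := (IsLocalizedModule.map A⁰ f g i).extendScalarsOfIsLocalization A⁰ K
  let P : (Fin n → K) →ₗ[K] L := (IsLocalizedModule.map A⁰ g f p).extendScalarsOfIsLocalization A⁰ K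
  have hI : ∀ y, I (f y) = g (i y) := fun y => IsLocalizedModule.map_apply A⁰ f g i y
  have hP : ∀ v, P (g v) = f (p v) := fun v => IsLocalizedModule.map_apply A⁰ g f p v
  have hPI : P ∘ₗ I = LinearMap.id := by
    apply LinearMap.restrictScalars_injective A
    refine IsLocalizedModule.ext A⁰ f (IsLocalizedModule.map_units (S := A⁰) f) (LinearMap.ext fun y => ?_)
    show P (I (f y)) = f y
    rw [hI, hP]
    exact congrArg f (LinearMap.congr_fun hi y)
  let N : (Fin n → A) →ₗ[A] (Fin n → A) := i ∘ₗ LinearMap.mulLeft A b ∘ₗ p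
  refine ⟨(LinearMap.toMatrix' N).trace, ?_⟩
  symm
  calc Algebra.trace K L (algebraMap B L b)
      = LinearMap.trace K L ((Algebra.lmul K L (algebraMap B L b) ∘ₗ P) ∘ₗ I) := by
        rw [LinearMap.comp_assoc, hPI, LinearMap.comp_id, Algebra.trace_apply]
    _ = LinearMap.trace K (Fin n → K) (I ∘ₗ Algebra.lmul K L (algebraMap B L b) ∘ₗ P) :=
        LinearMap.trace_comp_comm' _ _
    _ = algebraMap A K (LinearMap.toMatrix' N).trace := by
        rw [LinearMap.trace_eq_matrix_trace K (Pi.basisFun K (Fin n)), LinearMap.toMatrix_eq_toMatrix',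
          Matrix.trace, Matrix.trace, map_sum]
        refine Finset.sum_congr rfl fun j _ => ?_
        rw [Matrix.diag_apply, Matrix.diag_apply, LinearMap.toMatrix'_apply, LinearMap.toMatrix'_apply]
        have e1 : (Pi.single j 1 : Fin n → K) = g (Pi.single j 1) := by
          funext l
          by_cases hl : l = j
          · subst hl; simp [g]
          · simp [g, hl]
        simp only [LinearMap.comp_apply, Algebra.coe_lmul_eq_mul, LinearMap.mul_apply']
        rw [e1, hP]
        have e2 : algebraMap B L b * f (p (Pi.single j 1)) = f (b * p (Pi.single j 1)) :=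
          (map_mul (algebraMap B L) _ _).symm
        rw [e2, hI]
        rfl

end QFDualLib
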