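import Groth.Agent.QFDualLib.Basic
import Groth.Prelude.Def_QFDual

/-! Base change of `Hom_A(B, A)` and of the different. -/

set_option autoImplicit false

universe u

open TensorProduct

namespace QFDualLib

section Dual

variable {R V W A' : Type*} [CommRing R] [AddCommGroup V] [Module R V] [AddCommGroup W] [Module R W]
  [CommRing A'] [Algebra R A'] [Module A' W] [IsScalarTower R A' W] {j : V →ₗ[R] W}

theorem toDual_natural {V₂ W₂ : Type*} [AddCommGroup V₂] [Module R V₂] [AddCommGroup W₂] [Module R W₂]
    [Module A' W₂] [IsScalarTower R A' W₂] {j₂ : V₂ →ₗ[R] W₂} (ibc : IsBaseChange A' j)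
    (ibc₂ : IsBaseChange A' j₂) (f : V →ₗ[R] V₂) (f' : W →ₗ[A'] W₂) (hf : ∀ v, f' (j v) = j₂ (f v))
    (x : A' ⊗[R] Module.Dual R V₂) :
    f'.dualMap (LinearMap.liftBaseChange A' ibc₂.toDual x) =
      LinearMap.liftBaseChange A' ibc.toDual (f.dualMap.lTensor A' x) := by
  induction x using TensorProduct.induction_on with
  | zero => simp
  | add x y hx hy => simp only [map_add, hx, hy]
  | tmul a φ =>
    refine ibc.algHom_ext _ _ fun v => ?_
    simp only [LinearMap.lTensor_tmul, LinearMap.liftBaseChange_tmul, LinearMap.dualMap_apply,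
      LinearMap.smul_apply, hf]
    rw [ibc₂.toDual_comp_apply, ibc.toDual_comp_apply, LinearMap.dualMap_apply]

theorem toDual_lift_bijective_free [Module.Free R V] [Module.Finite R V] (ibc : IsBaseChange A' j) :
    Function.Bijective (LinearMap.liftBaseChange A' ibc.toDual) := by
  have h : LinearMap.liftBaseChange A' ibc.toDual = ibc.dual.equiv.toLinearMap := by
    refine TensorProduct.AlgebraTensorModule.ext fun a φ => ?_
    rw [LinearMap.liftBaseChange_tmul, LinearEquiv.coe_coe, IsBaseChange.equiv_tmul]
  rw [h]
  exact ibc.dual.equiv.bijective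

variable [Module.Flat R A'] [Module.FinitePresentation R V]

/-- The dual commutes with flat base change for finitely presented modules. -/
theorem toDual_lift_bijective (ibc : IsBaseChange A' j) :
    Function.Bijective (LinearMap.liftBaseChange A' ibc.toDual) := by
  obtain ⟨n, p, hp⟩ := Module.Finite.exists_fin' R V
  have hk : (LinearMap.ker p).FG := Module.FinitePresentation.fg_ker p hp
  have : Module.Finite R (LinearMap.ker p) := Module.Finite.of_fg hk
  obtain ⟨m, q₀, hq₀⟩ := Module.Finite.exists_fin' R (LinearMap.ker p)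
  let q : (Fin m → R) →ₗ[R] (Fin n → R) := (LinearMap.ker p).subtype ∘ₗ q₀
  have hq : LinearMap.range q = LinearMap.ker p := by
    rw [LinearMap.range_comp, LinearMap.range_eq_top.2 hq₀, Submodule.map_top, Submodule.range_subtype]
  let jn : (Fin n → R) →ₗ[R] (Fin n → A') := (Algebra.linearMap R A').compLeft (Fin n)
  let jm : (Fin m → R) →ₗ[R] (Fin m → A') := (Algebra.linearMap R A').compLeft (Fin m)
  have ibn : IsBaseChange A' jn := (IsBaseChange.linearMap R A').finitePow (Fin n)
  have ibm : IsBaseChange A' jm := (IsBaseChange.linearMap R A').finitePow (Fin m)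
  let p' : (Fin n → A') →ₗ[A'] W := ibn.lift (j ∘ₗ p)
  let q' : (Fin m → A') →ₗ[A'] (Fin n → A') := ibm.lift (jn ∘ₗ q)
  have hp' : ∀ v, p' (jn v) = j (p v) := fun v => ibn.lift_eq _ v
  have hq' : ∀ v, q' (jm v) = jn (q v) := fun v => ibm.lift_eq _ v
  have hp's : Function.Surjective p' := by
    intro w
    induction w using ibc.inductionOn with
    | zero => exact ⟨0, map_zero _⟩
    | tmul v => obtain ⟨u, rfl⟩ := hp v; exact ⟨jn u, hp' u⟩
    | smul a w hw => obtain ⟨u, rfl⟩ := hw; exact ⟨a • u, map_smul _ _ _⟩
    | add x y hx hy =>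
      obtain ⟨u, rfl⟩ := hx; obtain ⟨v, rfl⟩ := hy; exact ⟨u + v, map_add _ _ _⟩
  have hqp' : ∀ z, p' (q' z) = 0 := by
    intro z
    induction z using ibm.inductionOn with
    | zero => simp
    | tmul v =>
      rw [hq', hp', show p (q v) = 0 from LinearMap.mem_ker.1 (hq ▸ LinearMap.mem_range_self q v),
        map_zero]
    | smul a w hw => rw [map_smul, map_smul, hw, smul_zero]
    | add x y hx hy => rw [map_add, map_add, hx, hy, add_zero]
  have hex : Function.Exact p.dualMap q.dualMap := by
    rw [LinearMap.exact_iff, LinearMap.ker_dualMap_eq_dualAnnihilator_range, hq,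
      LinearMap.range_dualMap_eq_dualAnnihilator_ker_of_surjective p hp]
  have hexT := Module.Flat.lTensor_exact A' hex
  have hinj : Function.Injective (p.dualMap.lTensor A') :=
    Module.Flat.lTensor_preserves_injective_linearMap _ (LinearMap.dualMap_injective_of_surjective hp)
  refine ⟨fun x y hxy => hinj ((toDual_lift_bijective_free ibn).1 ?_), fun ψ => ?_⟩
  · rw [← toDual_natural ibn ibc p p' hp', ← toDual_natural ibn ibc p p' hp', hxy]
  · obtain ⟨x, hx⟩ := (toDual_lift_bijective_free ibn).2 (p'.dualMap ψ)
    have h0 : q.dualMap.lTensor A' x = 0 := by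
      refine (toDual_lift_bijective_free ibm).1 ?_
      rw [← toDual_natural ibm ibn q q' hq', hx, map_zero]
      exact LinearMap.ext fun z => by simp [hqp']
    obtain ⟨y, rfl⟩ := (hexT x).1 h0
    refine ⟨y, LinearMap.dualMap_injective_of_surjective hp's ?_⟩
    rw [toDual_natural ibn ibc p p' hp', hx]

end Dual

section Omega

variable {A B A' B' : Type u} [CommRing A] [CommRing B] [CommRing A'] [CommRing B']
  [Algebra A B] [Algebra A A'] [Algebra B B'] [Algebra A' B'] [Algebra A B']
  [IsScalarTower A A' B'] [IsScalarTower A B B']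

theorem omega_algebraMap_smul (a : A') (φ : Disc.Omega A' B') :
    (algebraMap A' B' a • φ).toLinearMap = a • φ.toLinearMap := by
  refine LinearMap.ext fun x => ?_
  rw [Disc.Omega.smul_toLinearMap_apply, ← Algebra.smul_def, map_smul, LinearMap.smul_apply]

/-- Induction over a base change of `Hom_A(B, A)`. -/
theorem omega_induction (hB : Algebra.IsPushout A A' B B')
    (hbij : Function.Bijective (LinearMap.liftBaseChange A' hB.out.toDual))
    {P : Disc.Omega A' B' → Prop} (h0 : P 0) (hadd : ∀ x y, P x → P y → P (x + y))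
    (h : ∀ (a : A') (φ : Disc.Omega A B), P (algebraMap A' B' a • QFDual.bcFin hB φ)) (ω) : P ω := by
  obtain ⟨t, ht⟩ := hbij.2 ω.toLinearMap
  obtain rfl : ω = ⟨LinearMap.liftBaseChange A' hB.out.toDual t⟩ := Disc.Omega.ext ht.symm
  clear ht
  induction t using TensorProduct.induction_on with
  | zero =>
    have : (⟨LinearMap.liftBaseChange A' hB.out.toDual 0⟩ : Disc.Omega A' B') = 0 :=
      Disc.Omega.ext (map_zero _)
    rw [this]; exact h0
  | add x y hx hy =>
    have : (⟨LinearMap.liftBaseChange A' hB.out.toDual (x + y)⟩ : Disc.Omega A' B') =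
        ⟨LinearMap.liftBaseChange A' hB.out.toDual x⟩ + ⟨LinearMap.liftBaseChange A' hB.out.toDual y⟩ :=
      Disc.Omega.ext (map_add _ _ _)
    rw [this]; exact hadd _ _ hx hy
  | tmul a φ =>
    have : (⟨LinearMap.liftBaseChange A' hB.out.toDual (a ⊗ₜ φ)⟩ : Disc.Omega A' B') =
        algebraMap A' B' a • QFDual.bcFin hB ⟨φ⟩ := by
      refine Disc.Omega.ext ?_
      rw [LinearMap.liftBaseChange_tmul, omega_algebraMap_smul]
      rfl
    rw [this]; exact h a ⟨φ⟩

theorem mul_induction (hB : Algebra.IsPushout A A' B B') {P : B' → Prop} (h0 : P 0)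
    (hadd : ∀ x y, P x → P y → P (x + y)) (h : ∀ (a : A') (b : B), P (algebraMap A' B' a * algebraMap B B' b))
    (c : B') : P c := by
  obtain ⟨t, rfl⟩ := hB.out.equiv.surjective c
  induction t using TensorProduct.induction_on with
  | zero => rwa [map_zero]
  | add x y hx hy => rw [map_add]; exact hadd _ _ hx hy
  | tmul a b =>
    convert! h a b
    rw [hB.out.equiv_tmul, Algebra.smul_def]
    rfl

variable [Module.Free A B] [Module.Finite A B] [Module.Free A' B'] [Module.Finite A' B']

theorem bcFin_trace (hB : Algebra.IsPushout A A' B B') :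
    QFDual.bcFin hB (Disc.Omega.trace A B) = Disc.Omega.trace A' B' := by
  classical
  refine Disc.Omega.ext (hB.out.algHom_ext _ _ fun x => ?_)
  let b := Module.Free.chooseBasis A B
  exact (hB.out.toDual_comp_apply _ x).trans
    (trace_map b (hB.out.basis b) (fun i => hB.out.basis_apply b i) x).symm

theorem map_different_le (hB : Algebra.IsPushout A A' B B') :
    Ideal.map (algebraMap B B') (QFDual.different B (Disc.Omega.trace A B)) ≤
      QFDual.different B' (Disc.Omega.trace A' B') := by
  rw [Ideal.map_le_iff_le_comap]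
  intro b hb
  rw [Ideal.mem_comap, QFDual.mem_different_iff]
  rw [QFDual.mem_different_iff] at hb
  intro ω
  induction ω using omega_induction hB (toDual_lift_bijective_free _) with
  | h0 => exact ⟨0, by simp⟩
  | hadd x y hx hy =>
    obtain ⟨c, hc⟩ := hx
    obtain ⟨d, hd⟩ := hy
    exact ⟨c + d, by rw [add_smul, hc, hd, smul_add]⟩
  | h a φ =>
    obtain ⟨c, hc⟩ := hb φ
    refine ⟨algebraMap A' B' a * algebraMap B B' c, ?_⟩
    rw [mul_smul, ← bcFin_trace hB, ← LinearMap.map_smulₛₗ, hc, LinearMap.map_smulₛₗ, smul_comm]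

theorem invertible_swap {R M : Type*} [CommRing R] [AddCommGroup M] [Module R M] [Module.Invertible R M]
    (f : M →ₗ[R] R) (x y : M) : f x • y = f y • x := by
  rw [← sub_eq_zero]
  by_contra hne
  obtain ⟨m, hm, hle⟩ := Ideal.exists_le_maximal (LinearMap.ker (LinearMap.toSpanSingleton R M (f x • y - f y • x))) (by
    rw [Ne, Ideal.eq_top_iff_one, LinearMap.mem_ker, LinearMap.toSpanSingleton_apply, one_smul]; exact hne)
  let Rm := Localization.AtPrime m
  let ι := LocalizedModule.mkLinearMap m.primeCompl M
  obtain ⟨e⟩ := (Module.Invertible.free_iff_linearEquiv).1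
    (inferInstance : Module.Free Rm (LocalizedModule m.primeCompl M))
  let F : LocalizedModule m.primeCompl M →ₗ[Rm] Rm :=
    (IsLocalizedModule.map m.primeCompl ι (Algebra.linearMap R Rm) f).extendScalarsOfIsLocalization m.primeCompl Rm
  have hF : ∀ z, F (ι z) = algebraMap R Rm (f z) := fun z => IsLocalizedModule.map_apply _ _ _ f z
  have key : ι (f x • y - f y • x) = 0 := by
    have hu : ∀ z w, F z • w = F w • z := by
      intro z w
      have hz : ∀ z, z = e z • e.symm 1 := fun z => by
        rw [← map_smul, smul_eq_mul, mul_one, e.symm_apply_apply]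
      conv_lhs => rw [hz z, hz w]
      conv_rhs => rw [hz z, hz w]
      rw [map_smul, map_smul, smul_smul, smul_smul, smul_eq_mul, smul_eq_mul]
      congr 1
      ring
    have := hu (ι x) (ι y)
    rw [hF, hF, algebraMap_smul, algebraMap_smul] at this
    rw [map_sub, map_smul, map_smul, this, sub_self]
  obtain ⟨s, hs⟩ := (IsLocalizedModule.eq_zero_iff m.primeCompl ι).1 key
  exact s.2 (hle (by rw [LinearMap.mem_ker, LinearMap.toSpanSingleton_apply]; exact hs))

theorem map_different_eq_of_invertible (hB : Algebra.IsPushout A A' B B')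
    [Module.Invertible B (Disc.Omega A B)] :
    Ideal.map (algebraMap B B') (QFDual.different B (Disc.Omega.trace A B)) =
      QFDual.different B' (Disc.Omega.trace A' B') := by
  refine le_antisymm (map_different_le hB) fun b' hb' => ?_
  rw [QFDual.mem_different_iff] at hb'
  obtain ⟨t, ht⟩ := (Module.Invertible.linearEquiv B (Disc.Omega A B)).surjective 1
  suffices key : ∀ t : Module.Dual B (Disc.Omega A B) ⊗[B] Disc.Omega A B,
      algebraMap B B' (Module.Invertible.linearEquiv B (Disc.Omega A B) t) * b' ∈
        Ideal.map (algebraMap B B') (QFDual.different B (Disc.Omega.trace A B)) by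
    have := key t
    rwa [ht, map_one, one_mul] at this
  intro t
  induction t using TensorProduct.induction_on with
  | zero => simp
  | add x y hx hy => rw [map_add, map_add, add_mul]; exact Ideal.add_mem _ hx hy
  | tmul f φ =>
    have hlin : (Module.Invertible.linearEquiv B (Disc.Omega A B)) (f ⊗ₜ φ) = f φ := rfl
    rw [hlin]
    let g₀ : Module.Dual A B →ₗ[A] B' :=
      { toFun := fun ψ => algebraMap B B' (f ⟨ψ⟩)
        map_add' := fun ψ χ => by rw [← map_add, ← map_add]; rfl
        map_smul' := fun a ψ => by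
          have : (⟨a • ψ⟩ : Disc.Omega A B) = algebraMap A B a • ⟨ψ⟩ :=
            Disc.Omega.ext (omega_algebraMap_smul a _).symm
          rw [this, map_smul, smul_eq_mul, map_mul, ← IsScalarTower.algebraMap_apply, RingHom.id_apply,
            Algebra.smul_def] }
    let G : Disc.Omega A' B' → B' := fun ω => hB.out.dual.lift g₀ ω.toLinearMap
    have hG0 : ∀ ψ, G (QFDual.bcFin hB ψ) = algebraMap B B' (f ψ) := fun ψ =>
      hB.out.dual.lift_eq g₀ ψ.toLinearMap
    have hGadd : ∀ x y, G (x + y) = G x + G y := fun x y => map_add _ _ _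
    have hGzero : G 0 = 0 := map_zero _
    have hGa : ∀ (a : A') x, G (algebraMap A' B' a • x) = algebraMap A' B' a * G x := fun a x => by
      show hB.out.dual.lift g₀ _ = _
      rw [omega_algebraMap_smul, map_smul, Algebra.smul_def]
    have hGc : ∀ c x, G (c • x) = c * G x := by
      intro c x
      induction c using mul_induction hB with
      | h0 => simp [hGzero]
      | hadd c d hc hd => rw [add_smul, hGadd, hc, hd, add_mul]
      | h a b =>
        rw [mul_smul, hGa, mul_assoc]
        congr 1
        induction x using omega_induction hB (toDual_lift_bijective_free _) with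
        | h0 => rw [smul_zero, hGzero, mul_zero]
        | hadd y z hy hz => rw [smul_add, hGadd, hy, hz, hGadd, mul_add]
        | h a' ψ =>
          rw [smul_comm, hGa, hGa, ← LinearMap.map_smulₛₗ, hG0, hG0, map_smul, smul_eq_mul, map_mul,
            mul_left_comm]
    have hfd : f (Disc.Omega.trace A B) ∈ QFDual.different B (Disc.Omega.trace A B) :=
      (QFDual.mem_different_iff B _ _).2 fun ψ => ⟨f ψ, (invertible_swap f _ _).symm⟩
    obtain ⟨c, hc⟩ := hb' (QFDual.bcFin hB φ)
    rw [← hG0, mul_comm, ← hGc, ← hc, hGc, ← bcFin_trace hB, hG0]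
    exact Ideal.mul_mem_left _ _ (Ideal.mem_map_of_mem _ hfd)

theorem map_different_eq_of_flat (hB : Algebra.IsPushout A A' B B') [Module.Flat A A'] :
    Ideal.map (algebraMap B B') (QFDual.different B (Disc.Omega.trace A B)) =
      QFDual.different B' (Disc.Omega.trace A' B') := by
  classical
  refine le_antisymm (map_different_le hB) fun x hx => ?_
  rw [QFDual.mem_different_iff] at hx
  let b := Module.Free.chooseBasis A B
  let ι := Module.Free.ChooseBasisIndex A B
  let b' := hB.out.basis b
  have hb' : ∀ i, b' i = algebraMap B B' (b i) := fun i => hB.out.basis_apply b i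
  let h : (B × (ι → B)) →ₗ[A] (ι × ι → A) := LinearMap.pi fun ij =>
    b.coord ij.1 ∘ₗ LinearMap.mulRight A (b ij.2) ∘ₗ LinearMap.fst A B (ι → B) -
      Algebra.trace A B ∘ₗ LinearMap.mulRight A (b ij.2) ∘ₗ LinearMap.proj ij.1 ∘ₗ LinearMap.snd A B (ι → B)
  let P : A' ⊗[A] (B × (ι → B)) →ₗ[A'] B' × (ι → B') :=
    LinearMap.liftBaseChange A' ((IsScalarTower.toAlgHom A B B').toLinearMap.prodMap
      (LinearMap.pi fun i => (IsScalarTower.toAlgHom A B B').toLinearMap ∘ₗ LinearMap.proj i))
  have hsolve : ∀ z ∈ LinearMap.ker h, z.1 ∈ QFDual.different B (Disc.Omega.trace A B) := by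
    intro z hz
    rw [QFDual.mem_different_iff]
    intro φ
    refine ⟨∑ i, φ.toLinearMap (b i) • z.2 i, Disc.Omega.ext (b.ext fun j => ?_)⟩
    have hz' : ∀ i, b.repr (z.1 * b j) i = Algebra.trace A B (z.2 i * b j) := fun i => by
      simpa [h, sub_eq_zero] using congrFun (LinearMap.mem_ker.1 hz) (i, j)
    rw [Disc.Omega.smul_toLinearMap_apply, Disc.Omega.smul_toLinearMap_apply]
    show Algebra.trace A B _ = _
    conv_rhs => rw [← b.sum_repr (z.1 * b j)]
    simp only [Finset.sum_mul, map_sum, smul_mul_assoc, map_smul, hz', smul_eq_mul]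
    exact Finset.sum_congr rfl fun i _ => mul_comm _ _
  choose c hc using fun i => hx ⟨b'.coord i⟩
  obtain ⟨z, hz⟩ : ∃ z, P z = (x, c) := by
    choose e he using fun y : B' => hB.out.equiv.surjective y
    refine ⟨(LinearMap.inl A B (ι → B)).lTensor A' (e x) +
      ∑ i, (LinearMap.inr A B (ι → B) ∘ₗ LinearMap.single A (fun _ : ι => B) i).lTensor A' (e (c i)), ?_⟩
    have h1 : ∀ t, P ((LinearMap.inl A B (ι → B)).lTensor A' t) = (hB.out.equiv t, 0) := by
      intro t
      induction t using TensorProduct.induction_on with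
      | zero => simp; rfl
      | add u v hu hv => simp only [map_add, hu, hv, Prod.mk_add_mk, add_zero]
      | tmul a y =>
        rw [LinearMap.lTensor_tmul, LinearMap.liftBaseChange_tmul, IsBaseChange.equiv_tmul]
        ext i <;> simp
    have h2 : ∀ i t, P ((LinearMap.inr A B (ι → B) ∘ₗ LinearMap.single A (fun _ : ι => B) i).lTensor A' t)
        = (0, Pi.single i (hB.out.equiv t)) := by
      intro i t
      induction t using TensorProduct.induction_on with
      | zero => simp; rfl
      | add u v hu hv => simp only [map_add, hu, hv, Prod.mk_add_mk, add_zero, ← Pi.single_add]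
      | tmul a y =>
        rw [LinearMap.lTensor_tmul, LinearMap.liftBaseChange_tmul, IsBaseChange.equiv_tmul]
        ext l
        · simp
        · by_cases hl : l = i
          · subst hl; simp
          · simp [hl]
    rw [map_add, map_sum, h1]
    simp only [h2, he]
    ext l
    · simp [Prod.fst_sum]
    · simp [Prod.snd_sum, Finset.sum_apply, Pi.single_apply]
  have hPh : ∀ t ij, (TensorProduct.piScalarRight A A' A' (ι × ι) (h.lTensor A' t)) ij =
      b'.repr ((P t).1 * b' ij.2) ij.1 - Algebra.trace A' B' ((P t).2 ij.1 * b' ij.2) := by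
    intro t ij
    induction t using TensorProduct.induction_on with
    | zero => simp
    | add u v hu hv =>
      simp only [map_add, Pi.add_apply, hu, hv, Prod.fst_add, Prod.snd_add, add_mul, Finsupp.add_apply]
      ring
    | tmul a y =>
      rw [LinearMap.lTensor_tmul, TensorProduct.piScalarRight_apply, TensorProduct.piScalarRightHom_tmul,
        LinearMap.liftBaseChange_tmul]
      simp only [Prod.smul_fst, Prod.smul_snd, Pi.smul_apply, smul_mul_assoc, map_smul, hb']
      simp only [LinearMap.prodMap_apply, LinearMap.pi_apply, LinearMap.comp_apply, LinearMap.proj_apply,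
        AlgHom.toLinearMap_apply, IsScalarTower.coe_toAlgHom']
      rw [← map_mul, ← map_mul, Finsupp.smul_apply, repr_map b b' hb', trace_map b b' hb']
      simp [h, Algebra.smul_def, mul_sub, mul_comm]
  have h0 : h.lTensor A' z = 0 := by
    refine (TensorProduct.piScalarRight A A' A' (ι × ι)).injective (funext fun ij => ?_)
    rw [map_zero, Pi.zero_apply, hPh, hz, sub_eq_zero]
    have := LinearMap.congr_fun (congrArg Disc.Omega.toLinearMap (hc ij.1)) (b' ij.2)
    rw [Disc.Omega.smul_toLinearMap_apply, Disc.Omega.smul_toLinearMap_apply] at this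
    exact this.symm
  obtain ⟨w, rfl⟩ := ((Module.Flat.lTensor_exact A' h.exact_subtype_ker_map) z).1 h0
  have : (P ((LinearMap.ker h).subtype.lTensor A' w)).1 ∈
      Ideal.map (algebraMap B B') (QFDual.different B (Disc.Omega.trace A B)) := by
    clear hz h0
    induction w using TensorProduct.induction_on with
    | zero => simp
    | add u v hu hv => simp only [map_add, Prod.fst_add]; exact Ideal.add_mem _ hu hv
    | tmul a y =>
      rw [LinearMap.lTensor_tmul, LinearMap.liftBaseChange_tmul, Prod.smul_fst, Algebra.smul_def]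
      exact Ideal.mul_mem_left _ _ (Ideal.mem_map_of_mem _ (hsolve y y.2))
  rwa [hz] at this

end Omega

end QFDualLib
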